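import Cfsg.Agent.S5634

/-!
The stabiliser of a pair of complementary planes is maximal in `SL(4, q)`, `q ≥ 4` (helper17).
-/

set_option autoImplicit false
open Cfsg

namespace Cfsg.Agent.SL4Geo17

open Cfsg.Agent.MaxSub Cfsg.Agent.MaxSub.Frame Matrix

variable {F : Type*} [Field F] {M : Subgroup (GL (Fin 2 × Fin 2) F)}

theorem split_two (φ : Fin 2 × Fin 2 → F) {a b : Fin 2} (hab : a ≠ b) :
    φ = inj a (res a φ) + inj b (res b φ) := by
  funext ⟨p, l⟩
  have hl : l = a ∨ l = b := by revert hab; revert a b l; decide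
  rcases hl with rfl | rfl
  · simp [inj_apply_ne hab, res]
  · simp [inj_apply_ne (Ne.symm hab), res]

theorem smul_mem_dualSet {v φ : Fin 2 × Fin 2 → F} {c : F} (hc : c ≠ 0)
    (h : φ ∈ dualSet M (c • v)) : c • φ ∈ dualSet M v := by
  have h0 : φ ⬝ᵥ v = 0 := by simpa [hc] using h.1
  exact ⟨by simp [h0], tv_smul_comm c h0 ▸ h.2⟩

/-- A transvection with isotropic components gives a cross transvection. -/
theorem cross_of_iso [Finite F] (hM : HasBlocks M) (hq : 4 ≤ Nat.card F) {w ψ : Fin 2 × Fin 2 → F}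
    (hψ : ψ ∈ dualSet M w) {a b : Fin 2} (hab : a ≠ b)
    (hiso : ∀ l, res l ψ ≠ 0 ∧ res l w ≠ 0 ∧ res l ψ ⬝ᵥ res l w = 0) : HasCross M := by
  classical
  obtain ⟨xa, hxa⟩ := exists_dotProduct_ne_zero (hiso a).1
  obtain ⟨xb, hxb⟩ := exists_dotProduct_ne_zero (hiso b).1
  set ua := (res a ψ ⬝ᵥ xa)⁻¹ • xa with hua
  set ub := (res b ψ ⬝ᵥ xb)⁻¹ • xb with hub
  have ha1 : inj a (res a ψ) ⬝ᵥ inj a ua = 1 := by
    rw [inj_dotProduct, res_inj, hua, dotProduct_smul, smul_eq_mul, inv_mul_cancel₀ hxa]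
  have hb1 : inj b (res b ψ) ⬝ᵥ inj b ub = 1 := by
    rw [inj_dotProduct, res_inj, hub, dotProduct_smul, smul_eq_mul, inv_mul_cancel₀ hxb]
  have h0a : inj a (res a ψ) ⬝ᵥ w = 0 := by rw [inj_dotProduct, (hiso a).2.2]
  have h0b : inj b (res b ψ) ⬝ᵥ w = 0 := by rw [inj_dotProduct, (hiso b).2.2]
  -- the pairs `(x, y)` whose product is a fourth power
  have key : ∀ x y l : Fˣ, x * y = l ^ 4 →
      (x : F) • inj a (res a ψ) + (y : F) • inj b (res b ψ) ∈ dualSet M w := by
    intro x y l hl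
    set A := hmg _ _ x⁻¹ ha1
    set B := hmg _ _ y⁻¹ hb1
    set S : GL (Fin 2 × Fin 2) F :=
      Units.map (Matrix.scalar (Fin 2 × Fin 2) : F →+* _).toMonoidHom l with hS
    have hSv : (S : Matrix (Fin 2 × Fin 2) (Fin 2 × Fin 2) F) = (l : F) • 1 := by
      simp [hS, ← Matrix.smul_one_eq_diagonal]
    have hgM : S * A * B ∈ M := by
      refine hM _ ⟨id ∘ id, ?_⟩ ?_
      · rw [Units.val_mul, Units.val_mul, mul_assoc, hSv, Matrix.smul_mul, one_mul]
        intro i j hij
        rw [Matrix.smul_apply, ((blockAt_hmg _ _ _ ha1).mul (blockAt_hmg _ _ _ hb1)) i j hij,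
          smul_zero]
      · have hSdet : Matrix.GeneralLinearGroup.det S = l ^ 4 := by
          refine Units.ext ?_
          rw [Matrix.GeneralLinearGroup.val_det_apply, hSv, Matrix.det_smul]
          simp
        rw [map_mul, map_mul, hSdet, det_hmg, det_hmg, ← hl, mul_assoc, ← mul_inv]
        rw [mul_inv_cancel]
    have hw : ((S * A * B : GL (Fin 2 × Fin 2) F) : Matrix (Fin 2 × Fin 2) (Fin 2 × Fin 2) F) *ᵥ w
        = (l : F) • w := by
      simp only [A, B, Units.val_mul, ← mulVec_mulVec, hmg_mulVec, h0b, h0a, zero_smul, add_zero,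
        hSv, smul_mulVec, one_mulVec]
    have h1 := conj_mem_dualSet hgM hψ
    rw [hw] at h1
    convert smul_mem_dualSet l.ne_zero h1 using 1
    rw [_root_.mul_inv_rev, _root_.mul_inv_rev, Units.val_mul, Units.val_mul]
    show _ = (l : F) • (ψ ᵥ* ((1 + vecMulVec ((((y⁻¹⁻¹ : Fˣ) : F) - 1) • inj b ub) _) *
      ((1 + vecMulVec ((((x⁻¹⁻¹ : Fˣ) : F) - 1) • inj a ua) _) *
        ((S⁻¹ : GL (Fin 2 × Fin 2) F) : Matrix (Fin 2 × Fin 2) (Fin 2 × Fin 2) F))))
    have hSi : ((S⁻¹ : GL (Fin 2 × Fin 2) F) : Matrix (Fin 2 × Fin 2) (Fin 2 × Fin 2) F) =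
        ((l⁻¹ : Fˣ) : F) • 1 := by
      rw [hS, ← map_inv]
      simp [← Matrix.smul_one_eq_diagonal]
    have d1 : ψ ⬝ᵥ inj b ub = 1 := by
      rw [split_two ψ hab, add_dotProduct, hb1, inj_dotProduct, res_inj_ne hab, dotProduct_zero,
        zero_add]
    have d2 : ψ ⬝ᵥ inj a ua = 1 := by
      rw [split_two ψ hab, add_dotProduct, ha1, inj_dotProduct, res_inj_ne hab.symm, dotProduct_zero,
        add_zero]
    have d3 : inj b (res b ψ) ⬝ᵥ inj a ua = 0 := by
      rw [inj_dotProduct, res_inj_ne hab.symm, dotProduct_zero]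
    rw [hSi]
    simp only [← vecMul_vecMul, vecMul_add, vecMul_one, vecMul_vecMulVec, vecMul_smul, inv_inv,
      dotProduct_smul, add_dotProduct, smul_dotProduct, d1, d2, d3, smul_smul, smul_eq_mul, mul_one,
      mul_zero, add_zero, Units.mul_inv, one_smul]
    linear_combination (norm := module) -split_two ψ hab
  obtain ⟨z, hz0, hz⟩ : ∃ z : F, z ≠ 0 ∧ z • inj a (res a ψ) ∈ dualSet M w := by
    by_cases hl : ∃ l : Fˣ, l ^ 4 ≠ 1
    · obtain ⟨l, hl⟩ := hl
      refine ⟨((l ^ 4 : Fˣ) : F) - 1, sub_ne_zero.mpr fun e => hl (Units.ext e), ?_⟩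
      have := sub_mem (key (l ^ 4) 1 l (mul_one _)) (key 1 1 1 (by simp))
      convert this using 1
      simp only [Units.val_one]
      module
    push Not at hl
    have h5 : Nat.card F ≤ 5 := by
      letI := Fintype.ofFinite F
      have hsub : (Finset.univ : Finset F) ⊆ insert 0 (Polynomial.nthRootsFinset 4 (1 : F)) := by
        intro x _
        by_cases hx : x = 0
        · simp [hx]
        · refine Finset.mem_insert_of_mem ((Polynomial.mem_nthRootsFinset (by norm_num) _).mpr ?_)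
          simpa using congrArg Units.val (hl (Units.mk0 x hx))
      have h1 := Finset.card_le_card hsub
      have h2 := Finset.card_insert_le (0 : F) (Polynomial.nthRootsFinset 4 (1 : F))
      have h3 : (Polynomial.nthRootsFinset 4 (1 : F)).card ≤ 4 := by
        rw [Polynomial.nthRootsFinset_def]
        exact (Multiset.toFinset_card_le _).trans (Polynomial.card_nthRoots 4 1)
      rw [Finset.card_univ, ← Nat.card_eq_fintype_card] at h1
      omega
    have h2 : (2 : F) ≠ 0 := by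
      intro h2
      haveI : CharP F 2 := CharTwo.of_one_ne_zero_of_two_eq_zero one_ne_zero h2
      letI := Fintype.ofFinite F
      obtain ⟨u, hu⟩ : ∃ u : F, u ∉ ({0, 1} : Finset F) := by
        by_contra hh
        push Not at hh
        have := (Finset.card_le_card (fun x _ => hh x : (Finset.univ : Finset F) ⊆ {0, 1})).trans
          Finset.card_le_two
        rw [Finset.card_univ, ← Nat.card_eq_fintype_card] at this
        omega
      simp only [Finset.mem_insert, Finset.mem_singleton, not_or] at hu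
      have h4 : u ^ 4 = 1 := by simpa using congrArg Units.val (hl (Units.mk0 u hu.1))
      have : (u - 1) ^ 4 = 0 := by linear_combination h4 + (-2 * u ^ 3 + 3 * u ^ 2 - 2 * u + 1) * h2
      exact hu.2 (sub_eq_zero.mp (eq_zero_of_pow_eq_zero this))
    have h3 : (3 : F) ≠ 0 := by
      intro h3
      letI := Fintype.ofFinite F
      have h0 := FiniteField.cast_card_eq_zero F
      rw [← Nat.card_eq_fintype_card] at h0
      obtain h | h : Nat.card F = 4 ∨ Nat.card F = 5 := by omega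
      all_goals rw [h] at h0; push_cast at h0
      · exact one_ne_zero (α := F) (by linear_combination h0 - h3)
      · exact h2 (by linear_combination h0 - h3)
    refine ⟨2 - 2⁻¹, ?_, ?_⟩
    · intro e
      refine h3 ?_
      field_simp at e
      linear_combination e
    have := sub_mem (add_mem (key 1 1 1 (by simp)) (key 1 1 1 (by simp)))
      (key (Units.mk0 2 h2)⁻¹ (Units.mk0 2 h2) 1 (by simp))
    convert this using 1
    simp only [Units.val_one, Units.val_inv_eq_inv_val, Units.val_mk0]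
    module
  rw [smul_inj] at hz
  exact hM.cross_of_single le_rfl hab.symm (hiso b).2.1 (smul_ne_zero hz0 (hiso a).1) hz

/-- A cross transvection exists. -/
theorem hasCross22 [Finite F] (hM : HasBlocks M) (hq : 4 ≤ Nat.card F)
    {g : GL (Fin 2 × Fin 2) F} (hg : g ∈ M) (hgn : ¬ BlockPerm g) : HasCross M := by
  obtain ⟨i, v, hv, j, j', hjj, hj, hj'⟩ := exists_two_blocks hgn
  obtain ⟨φ, hφ, hφv⟩ := exists_perp (show 1 < 2 by omega) fun _ => v
  have hψ := conj_mem_dualSet hg (hM.tv_mem i (hφv 0))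
  set w := (g : Matrix (Fin 2 × Fin 2) (Fin 2 × Fin 2) F) *ᵥ inj i v
  set ψ := inj i φ ᵥ* ((g⁻¹ : GL (Fin 2 × Fin 2) F) : Matrix (Fin 2 × Fin 2) (Fin 2 × Fin 2) F)
    with hψdef
  have hne : ψ ≠ 0 := fun e => inj_ne_zero (l := i) hφ (by
    have := congrArg (fun z => z ᵥ* (g : Matrix (Fin 2 × Fin 2) (Fin 2 × Fin 2) F)) e
    simpa [hψdef, vecMul_vecMul, Units.inv_mul] using this)
  have hcases : ∀ l, l = j ∨ l = j' := fun l => by clear hj hj'; revert hjj; revert j j' l; decide
  have hw : ∀ l, res l w ≠ 0 := fun l => by rcases hcases l with rfl | rfl <;> assumption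
  by_cases hgood : ∃ l, res l ψ ≠ 0 ∧ res l ψ ⬝ᵥ res l w ≠ 0
  · obtain ⟨l, hl, hl'⟩ := hgood
    exact hM.cross_of_good le_rfl hψ hjj hj hj' hl (Or.inr (Or.inr hl'))
  push Not at hgood
  by_cases hall : ∀ l, res l ψ ≠ 0
  · exact cross_of_iso hM hq hψ hjj fun l => ⟨hall l, hw l, hgood l (hall l)⟩
  push Not at hall
  obtain ⟨b, hb⟩ := hall
  obtain ⟨a, hab⟩ := exists_ne b
  have hψa : ψ = inj a (res a ψ) := by
    conv_lhs => rw [split_two ψ hab, hb]
    funext x
    simp [inj]
  have ha : res a ψ ≠ 0 := fun e => hne (by rw [hψa, e]; funext x; simp [inj])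
  rw [hψa] at hψ
  exact hM.cross_of_single le_rfl hab.symm (hw b) ha hψ

/-- Pairs of complementary planes. -/
theorem two_planes {F : Type*} [Field F] [Fintype F] (hq : 4 ≤ Fintype.card F) (D : Fin 2 → Submodule F (Fin 4 → F)) (hD : Cfsg.Geo.IsMDecomposition 2 D) : Cfsg.Geo.IsMaximalIn (Cfsg.Geo.specialLinear (Fin 4) F) (Cfsg.Geo.decompositionStabilizer D ⊓ Cfsg.Geo.specialLinear (Fin 4) F) := by
  classical
  obtain ⟨Φ, hΦ⟩ := Cfsg.Agent.S5635.exists_coords hD
  set Ψ := Φ.trans pairCoords with hΨdef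
  have hΨ : ∀ i x, x ∈ D i ↔ ∀ y : Fin 2 × Fin 2, y.2 ≠ i → Ψ x y = 0 := fun i x =>
    (hΦ i x).trans ⟨fun h y hy => congrFun (h y.2 hy) y.1, fun h j hj => funext fun a => h (a, j) hj⟩
  set e := chart Ψ with he
  have hmem := map_mem_iff Ψ hD hΨ
  refine isMaximalIn_of inf_le_right ?_ ?_
  · set y₀ : Fin 2 × Fin 2 := (0, ⟨0, by omega⟩)
    set y₁ : Fin 2 × Fin 2 := (0, ⟨1, by omega⟩)
    have hne : y₀ ≠ y₁ := by simp [y₀, y₁, Fin.ext_iff]
    refine ⟨e.symm (el y₀ y₁ 1), ?_, fun h => ?_⟩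
    · show Matrix.GeneralLinearGroup.det _ = 1
      rw [← det_chart Ψ, ← he, MulEquiv.apply_symm_apply]
      exact det_tv _ _
    · obtain ⟨σ, hσ⟩ := (hmem _).mp h.1
      rw [← he, MulEquiv.apply_symm_apply, el_coe hne] at hσ
      have e1 : y₀.2 = σ y₁.2 := by
        by_contra hh
        have := hσ y₀ y₁ hh
        simp [transvection, hne] at this
      have e2 : y₁.2 = σ y₁.2 := by
        by_contra hh
        have := hσ y₁ y₁ hh
        simp [transvection, hne] at this
      exact hne (by simpa [y₀, y₁] using e1.trans e2.symm)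
  · intro M hHM hMK g hg hgH
    set M' := M.map e.toMonoidHom with hM'
    have hB : HasBlocks M' := fun k hk hdet => by
      refine ⟨e.symm k, hHM ⟨(hmem _).mpr (by rwa [← he, MulEquiv.apply_symm_apply]), ?_⟩,
        e.apply_symm_apply k⟩
      show Matrix.GeneralLinearGroup.det _ = 1
      rw [← det_chart Ψ, ← he, MulEquiv.apply_symm_apply, hdet]
    have hsl : M' ≤ Geo.specialLinear (Fin 2 × Fin 2) F := by
      rintro - ⟨k, hk, rfl⟩
      show Matrix.GeneralLinearGroup.det (chart Ψ k) = 1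
      rw [det_chart]
      exact hMK hk
    have hgn : ¬ BlockPerm (e g) := fun h => hgH ⟨(hmem g).mpr h, hMK hg⟩
    have hg' : e g ∈ M' := ⟨g, hg, rfl⟩
    have hle : Geo.specialLinear (Fin 2 × Fin 2) F ≤ M' := by
      exact hB.specialLinear_le_of_cross le_rfl (hasCross22 hB (by
        rwa [Nat.card_eq_fintype_card]) hg' hgn)
    intro k hk
    obtain ⟨k', hk', hkk⟩ := hle (show e k ∈ Geo.specialLinear (Fin 2 × Fin 2) F from by
      show Matrix.GeneralLinearGroup.det (chart Ψ k) = 1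
      rw [det_chart]; exact hk)
    exact e.injective hkk ▸ hk'


end Cfsg.Agent.SL4Geo17
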